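import Cfsg.Agent.Lib.ToddCox.Fi23C2.Data0
set_option autoImplicit false
set_option maxRecDepth 100000
namespace Cfsg.Agent.Lib.ToddCox.Fi23C2
def eT_1_3 (j : ℕ) : ℕ := bif Nat.blt j 2 then E_1 else E_2
def eT_0_3 (j : ℕ) : ℕ := bif Nat.blt j 1 then E_0 else (eT_1_3 j)
def eT_3_5 (j : ℕ) : ℕ := bif Nat.blt j 4 then E_3 else E_4
def eT_5_7 (j : ℕ) : ℕ := bif Nat.blt j 6 then E_5 else E_6
def eT_3_7 (j : ℕ) : ℕ := bif Nat.blt j 5 then (eT_3_5 j) else (eT_5_7 j)
def eT_0_7 (j : ℕ) : ℕ := bif Nat.blt j 3 then (eT_0_3 j) else (eT_3_7 j)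
def eT_8_10 (j : ℕ) : ℕ := bif Nat.blt j 9 then E_8 else E_9
def eT_7_10 (j : ℕ) : ℕ := bif Nat.blt j 8 then E_7 else (eT_8_10 j)
def eT_10_12 (j : ℕ) : ℕ := bif Nat.blt j 11 then E_10 else E_11
def eT_12_14 (j : ℕ) : ℕ := bif Nat.blt j 13 then E_12 else E_13
def eT_10_14 (j : ℕ) : ℕ := bif Nat.blt j 12 then (eT_10_12 j) else (eT_12_14 j)
def eT_7_14 (j : ℕ) : ℕ := bif Nat.blt j 10 then (eT_7_10 j) else (eT_10_14 j)
def eT_0_14 (j : ℕ) : ℕ := bif Nat.blt j 7 then (eT_0_7 j) else (eT_7_14 j)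
def eT_15_17 (j : ℕ) : ℕ := bif Nat.blt j 16 then E_15 else E_16
def eT_14_17 (j : ℕ) : ℕ := bif Nat.blt j 15 then E_14 else (eT_15_17 j)
def eT_17_19 (j : ℕ) : ℕ := bif Nat.blt j 18 then E_17 else E_18
def eT_19_21 (j : ℕ) : ℕ := bif Nat.blt j 20 then E_19 else E_20
def eT_17_21 (j : ℕ) : ℕ := bif Nat.blt j 19 then (eT_17_19 j) else (eT_19_21 j)
def eT_14_21 (j : ℕ) : ℕ := bif Nat.blt j 17 then (eT_14_17 j) else (eT_17_21 j)
def eT_22_24 (j : ℕ) : ℕ := bif Nat.blt j 23 then E_22 else E_23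
def eT_21_24 (j : ℕ) : ℕ := bif Nat.blt j 22 then E_21 else (eT_22_24 j)
def eT_24_26 (j : ℕ) : ℕ := bif Nat.blt j 25 then E_24 else E_25
def eT_26_28 (j : ℕ) : ℕ := bif Nat.blt j 27 then E_26 else E_27
def eT_24_28 (j : ℕ) : ℕ := bif Nat.blt j 26 then (eT_24_26 j) else (eT_26_28 j)
def eT_21_28 (j : ℕ) : ℕ := bif Nat.blt j 24 then (eT_21_24 j) else (eT_24_28 j)
def eT_14_28 (j : ℕ) : ℕ := bif Nat.blt j 21 then (eT_14_21 j) else (eT_21_28 j)
def eT_0_28 (j : ℕ) : ℕ := bif Nat.blt j 14 then (eT_0_14 j) else (eT_14_28 j)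
def eT_29_31 (j : ℕ) : ℕ := bif Nat.blt j 30 then E_29 else E_30
def eT_28_31 (j : ℕ) : ℕ := bif Nat.blt j 29 then E_28 else (eT_29_31 j)
def eT_31_33 (j : ℕ) : ℕ := bif Nat.blt j 32 then E_31 else E_32
def eT_33_35 (j : ℕ) : ℕ := bif Nat.blt j 34 then E_33 else E_34
def eT_31_35 (j : ℕ) : ℕ := bif Nat.blt j 33 then (eT_31_33 j) else (eT_33_35 j)
def eT_28_35 (j : ℕ) : ℕ := bif Nat.blt j 31 then (eT_28_31 j) else (eT_31_35 j)
def eT_36_38 (j : ℕ) : ℕ := bif Nat.blt j 37 then E_36 else E_37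
def eT_35_38 (j : ℕ) : ℕ := bif Nat.blt j 36 then E_35 else (eT_36_38 j)
def eT_38_40 (j : ℕ) : ℕ := bif Nat.blt j 39 then E_38 else E_39
def eT_40_42 (j : ℕ) : ℕ := bif Nat.blt j 41 then E_40 else E_41
def eT_38_42 (j : ℕ) : ℕ := bif Nat.blt j 40 then (eT_38_40 j) else (eT_40_42 j)
def eT_35_42 (j : ℕ) : ℕ := bif Nat.blt j 38 then (eT_35_38 j) else (eT_38_42 j)
def eT_28_42 (j : ℕ) : ℕ := bif Nat.blt j 35 then (eT_28_35 j) else (eT_35_42 j)
def eT_43_45 (j : ℕ) : ℕ := bif Nat.blt j 44 then E_43 else E_44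
def eT_42_45 (j : ℕ) : ℕ := bif Nat.blt j 43 then E_42 else (eT_43_45 j)
def eT_45_47 (j : ℕ) : ℕ := bif Nat.blt j 46 then E_45 else E_46
def eT_47_49 (j : ℕ) : ℕ := bif Nat.blt j 48 then E_47 else E_48
def eT_45_49 (j : ℕ) : ℕ := bif Nat.blt j 47 then (eT_45_47 j) else (eT_47_49 j)
def eT_42_49 (j : ℕ) : ℕ := bif Nat.blt j 45 then (eT_42_45 j) else (eT_45_49 j)
def eT_49_51 (j : ℕ) : ℕ := bif Nat.blt j 50 then E_49 else E_50
def eT_51_53 (j : ℕ) : ℕ := bif Nat.blt j 52 then E_51 else E_52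
def eT_49_53 (j : ℕ) : ℕ := bif Nat.blt j 51 then (eT_49_51 j) else (eT_51_53 j)
def eT_53_55 (j : ℕ) : ℕ := bif Nat.blt j 54 then E_53 else E_54
def eT_55_57 (j : ℕ) : ℕ := bif Nat.blt j 56 then E_55 else E_56
def eT_53_57 (j : ℕ) : ℕ := bif Nat.blt j 55 then (eT_53_55 j) else (eT_55_57 j)
def eT_49_57 (j : ℕ) : ℕ := bif Nat.blt j 53 then (eT_49_53 j) else (eT_53_57 j)
def eT_42_57 (j : ℕ) : ℕ := bif Nat.blt j 49 then (eT_42_49 j) else (eT_49_57 j)
def eT_28_57 (j : ℕ) : ℕ := bif Nat.blt j 42 then (eT_28_42 j) else (eT_42_57 j)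
def eT_0_57 (j : ℕ) : ℕ := bif Nat.blt j 28 then (eT_0_28 j) else (eT_28_57 j)
def eT_58_60 (j : ℕ) : ℕ := bif Nat.blt j 59 then E_58 else E_59
def eT_57_60 (j : ℕ) : ℕ := bif Nat.blt j 58 then E_57 else (eT_58_60 j)
def eT_60_62 (j : ℕ) : ℕ := bif Nat.blt j 61 then E_60 else E_61
def eT_62_64 (j : ℕ) : ℕ := bif Nat.blt j 63 then E_62 else E_63
def eT_60_64 (j : ℕ) : ℕ := bif Nat.blt j 62 then (eT_60_62 j) else (eT_62_64 j)
def eT_57_64 (j : ℕ) : ℕ := bif Nat.blt j 60 then (eT_57_60 j) else (eT_60_64 j)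
def eT_65_67 (j : ℕ) : ℕ := bif Nat.blt j 66 then E_65 else E_66
def eT_64_67 (j : ℕ) : ℕ := bif Nat.blt j 65 then E_64 else (eT_65_67 j)
def eT_67_69 (j : ℕ) : ℕ := bif Nat.blt j 68 then E_67 else E_68
def eT_69_71 (j : ℕ) : ℕ := bif Nat.blt j 70 then E_69 else E_70
def eT_67_71 (j : ℕ) : ℕ := bif Nat.blt j 69 then (eT_67_69 j) else (eT_69_71 j)
def eT_64_71 (j : ℕ) : ℕ := bif Nat.blt j 67 then (eT_64_67 j) else (eT_67_71 j)
def eT_57_71 (j : ℕ) : ℕ := bif Nat.blt j 64 then (eT_57_64 j) else (eT_64_71 j)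
def eT_72_74 (j : ℕ) : ℕ := bif Nat.blt j 73 then E_72 else E_73
def eT_71_74 (j : ℕ) : ℕ := bif Nat.blt j 72 then E_71 else (eT_72_74 j)
def eT_74_76 (j : ℕ) : ℕ := bif Nat.blt j 75 then E_74 else E_75
def eT_76_78 (j : ℕ) : ℕ := bif Nat.blt j 77 then E_76 else E_77
def eT_74_78 (j : ℕ) : ℕ := bif Nat.blt j 76 then (eT_74_76 j) else (eT_76_78 j)
def eT_71_78 (j : ℕ) : ℕ := bif Nat.blt j 74 then (eT_71_74 j) else (eT_74_78 j)
def eT_78_80 (j : ℕ) : ℕ := bif Nat.blt j 79 then E_78 else E_79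
def eT_80_82 (j : ℕ) : ℕ := bif Nat.blt j 81 then E_80 else E_81
def eT_78_82 (j : ℕ) : ℕ := bif Nat.blt j 80 then (eT_78_80 j) else (eT_80_82 j)
def eT_82_84 (j : ℕ) : ℕ := bif Nat.blt j 83 then E_82 else E_83
def eT_84_86 (j : ℕ) : ℕ := bif Nat.blt j 85 then E_84 else E_85
def eT_82_86 (j : ℕ) : ℕ := bif Nat.blt j 84 then (eT_82_84 j) else (eT_84_86 j)
def eT_78_86 (j : ℕ) : ℕ := bif Nat.blt j 82 then (eT_78_82 j) else (eT_82_86 j)
def eT_71_86 (j : ℕ) : ℕ := bif Nat.blt j 78 then (eT_71_78 j) else (eT_78_86 j)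
def eT_57_86 (j : ℕ) : ℕ := bif Nat.blt j 71 then (eT_57_71 j) else (eT_71_86 j)
def eT_87_89 (j : ℕ) : ℕ := bif Nat.blt j 88 then E_87 else E_88
def eT_86_89 (j : ℕ) : ℕ := bif Nat.blt j 87 then E_86 else (eT_87_89 j)
def eT_89_91 (j : ℕ) : ℕ := bif Nat.blt j 90 then E_89 else E_90
def eT_91_93 (j : ℕ) : ℕ := bif Nat.blt j 92 then E_91 else E_92
def eT_89_93 (j : ℕ) : ℕ := bif Nat.blt j 91 then (eT_89_91 j) else (eT_91_93 j)
def eT_86_93 (j : ℕ) : ℕ := bif Nat.blt j 89 then (eT_86_89 j) else (eT_89_93 j)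
def eT_94_96 (j : ℕ) : ℕ := bif Nat.blt j 95 then E_94 else E_95
def eT_93_96 (j : ℕ) : ℕ := bif Nat.blt j 94 then E_93 else (eT_94_96 j)
def eT_96_98 (j : ℕ) : ℕ := bif Nat.blt j 97 then E_96 else E_97
def eT_98_100 (j : ℕ) : ℕ := bif Nat.blt j 99 then E_98 else E_99
def eT_96_100 (j : ℕ) : ℕ := bif Nat.blt j 98 then (eT_96_98 j) else (eT_98_100 j)
def eT_93_100 (j : ℕ) : ℕ := bif Nat.blt j 96 then (eT_93_96 j) else (eT_96_100 j)
def eT_86_100 (j : ℕ) : ℕ := bif Nat.blt j 93 then (eT_86_93 j) else (eT_93_100 j)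
def eT_101_103 (j : ℕ) : ℕ := bif Nat.blt j 102 then E_101 else E_102
def eT_100_103 (j : ℕ) : ℕ := bif Nat.blt j 101 then E_100 else (eT_101_103 j)
def eT_103_105 (j : ℕ) : ℕ := bif Nat.blt j 104 then E_103 else E_104
def eT_105_107 (j : ℕ) : ℕ := bif Nat.blt j 106 then E_105 else E_106
def eT_103_107 (j : ℕ) : ℕ := bif Nat.blt j 105 then (eT_103_105 j) else (eT_105_107 j)
def eT_100_107 (j : ℕ) : ℕ := bif Nat.blt j 103 then (eT_100_103 j) else (eT_103_107 j)
def eT_107_109 (j : ℕ) : ℕ := bif Nat.blt j 108 then E_107 else E_108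
def eT_109_111 (j : ℕ) : ℕ := bif Nat.blt j 110 then E_109 else E_110
def eT_107_111 (j : ℕ) : ℕ := bif Nat.blt j 109 then (eT_107_109 j) else (eT_109_111 j)
def eT_111_113 (j : ℕ) : ℕ := bif Nat.blt j 112 then E_111 else E_112
def eT_113_115 (j : ℕ) : ℕ := bif Nat.blt j 114 then E_113 else E_114
def eT_111_115 (j : ℕ) : ℕ := bif Nat.blt j 113 then (eT_111_113 j) else (eT_113_115 j)
def eT_107_115 (j : ℕ) : ℕ := bif Nat.blt j 111 then (eT_107_111 j) else (eT_111_115 j)
def eT_100_115 (j : ℕ) : ℕ := bif Nat.blt j 107 then (eT_100_107 j) else (eT_107_115 j)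
def eT_86_115 (j : ℕ) : ℕ := bif Nat.blt j 100 then (eT_86_100 j) else (eT_100_115 j)
def eT_57_115 (j : ℕ) : ℕ := bif Nat.blt j 86 then (eT_57_86 j) else (eT_86_115 j)
def eT_0_115 (j : ℕ) : ℕ := bif Nat.blt j 57 then (eT_0_57 j) else (eT_57_115 j)
def eT_116_118 (j : ℕ) : ℕ := bif Nat.blt j 117 then E_116 else E_117
def eT_115_118 (j : ℕ) : ℕ := bif Nat.blt j 116 then E_115 else (eT_116_118 j)
def eT_118_120 (j : ℕ) : ℕ := bif Nat.blt j 119 then E_118 else E_119
def eT_120_122 (j : ℕ) : ℕ := bif Nat.blt j 121 then E_120 else E_121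
def eT_118_122 (j : ℕ) : ℕ := bif Nat.blt j 120 then (eT_118_120 j) else (eT_120_122 j)
def eT_115_122 (j : ℕ) : ℕ := bif Nat.blt j 118 then (eT_115_118 j) else (eT_118_122 j)
def eT_123_125 (j : ℕ) : ℕ := bif Nat.blt j 124 then E_123 else E_124
def eT_122_125 (j : ℕ) : ℕ := bif Nat.blt j 123 then E_122 else (eT_123_125 j)
def eT_125_127 (j : ℕ) : ℕ := bif Nat.blt j 126 then E_125 else E_126
def eT_127_129 (j : ℕ) : ℕ := bif Nat.blt j 128 then E_127 else E_128
def eT_125_129 (j : ℕ) : ℕ := bif Nat.blt j 127 then (eT_125_127 j) else (eT_127_129 j)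
def eT_122_129 (j : ℕ) : ℕ := bif Nat.blt j 125 then (eT_122_125 j) else (eT_125_129 j)
def eT_115_129 (j : ℕ) : ℕ := bif Nat.blt j 122 then (eT_115_122 j) else (eT_122_129 j)
def eT_130_132 (j : ℕ) : ℕ := bif Nat.blt j 131 then E_130 else E_131
def eT_129_132 (j : ℕ) : ℕ := bif Nat.blt j 130 then E_129 else (eT_130_132 j)
def eT_132_134 (j : ℕ) : ℕ := bif Nat.blt j 133 then E_132 else E_133
def eT_134_136 (j : ℕ) : ℕ := bif Nat.blt j 135 then E_134 else E_135
def eT_132_136 (j : ℕ) : ℕ := bif Nat.blt j 134 then (eT_132_134 j) else (eT_134_136 j)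
def eT_129_136 (j : ℕ) : ℕ := bif Nat.blt j 132 then (eT_129_132 j) else (eT_132_136 j)
def eT_136_138 (j : ℕ) : ℕ := bif Nat.blt j 137 then E_136 else E_137
def eT_138_140 (j : ℕ) : ℕ := bif Nat.blt j 139 then E_138 else E_139
def eT_136_140 (j : ℕ) : ℕ := bif Nat.blt j 138 then (eT_136_138 j) else (eT_138_140 j)
def eT_140_142 (j : ℕ) : ℕ := bif Nat.blt j 141 then E_140 else E_141
def eT_142_144 (j : ℕ) : ℕ := bif Nat.blt j 143 then E_142 else E_143
def eT_140_144 (j : ℕ) : ℕ := bif Nat.blt j 142 then (eT_140_142 j) else (eT_142_144 j)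
def eT_136_144 (j : ℕ) : ℕ := bif Nat.blt j 140 then (eT_136_140 j) else (eT_140_144 j)
def eT_129_144 (j : ℕ) : ℕ := bif Nat.blt j 136 then (eT_129_136 j) else (eT_136_144 j)
def eT_115_144 (j : ℕ) : ℕ := bif Nat.blt j 129 then (eT_115_129 j) else (eT_129_144 j)
def eT_145_147 (j : ℕ) : ℕ := bif Nat.blt j 146 then E_145 else E_146
def eT_144_147 (j : ℕ) : ℕ := bif Nat.blt j 145 then E_144 else (eT_145_147 j)
def eT_147_149 (j : ℕ) : ℕ := bif Nat.blt j 148 then E_147 else E_148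
def eT_149_151 (j : ℕ) : ℕ := bif Nat.blt j 150 then E_149 else E_150
def eT_147_151 (j : ℕ) : ℕ := bif Nat.blt j 149 then (eT_147_149 j) else (eT_149_151 j)
def eT_144_151 (j : ℕ) : ℕ := bif Nat.blt j 147 then (eT_144_147 j) else (eT_147_151 j)
def eT_152_154 (j : ℕ) : ℕ := bif Nat.blt j 153 then E_152 else E_153
def eT_151_154 (j : ℕ) : ℕ := bif Nat.blt j 152 then E_151 else (eT_152_154 j)
def eT_154_156 (j : ℕ) : ℕ := bif Nat.blt j 155 then E_154 else E_155
def eT_156_158 (j : ℕ) : ℕ := bif Nat.blt j 157 then E_156 else E_157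
def eT_154_158 (j : ℕ) : ℕ := bif Nat.blt j 156 then (eT_154_156 j) else (eT_156_158 j)
def eT_151_158 (j : ℕ) : ℕ := bif Nat.blt j 154 then (eT_151_154 j) else (eT_154_158 j)
def eT_144_158 (j : ℕ) : ℕ := bif Nat.blt j 151 then (eT_144_151 j) else (eT_151_158 j)
def eT_159_161 (j : ℕ) : ℕ := bif Nat.blt j 160 then E_159 else E_160
def eT_158_161 (j : ℕ) : ℕ := bif Nat.blt j 159 then E_158 else (eT_159_161 j)
def eT_161_163 (j : ℕ) : ℕ := bif Nat.blt j 162 then E_161 else E_162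
def eT_163_165 (j : ℕ) : ℕ := bif Nat.blt j 164 then E_163 else E_164
def eT_161_165 (j : ℕ) : ℕ := bif Nat.blt j 163 then (eT_161_163 j) else (eT_163_165 j)
def eT_158_165 (j : ℕ) : ℕ := bif Nat.blt j 161 then (eT_158_161 j) else (eT_161_165 j)
def eT_165_167 (j : ℕ) : ℕ := bif Nat.blt j 166 then E_165 else E_166
def eT_167_169 (j : ℕ) : ℕ := bif Nat.blt j 168 then E_167 else E_168
def eT_165_169 (j : ℕ) : ℕ := bif Nat.blt j 167 then (eT_165_167 j) else (eT_167_169 j)
def eT_169_171 (j : ℕ) : ℕ := bif Nat.blt j 170 then E_169 else E_170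
def eT_171_173 (j : ℕ) : ℕ := bif Nat.blt j 172 then E_171 else E_172
def eT_169_173 (j : ℕ) : ℕ := bif Nat.blt j 171 then (eT_169_171 j) else (eT_171_173 j)
def eT_165_173 (j : ℕ) : ℕ := bif Nat.blt j 169 then (eT_165_169 j) else (eT_169_173 j)
def eT_158_173 (j : ℕ) : ℕ := bif Nat.blt j 165 then (eT_158_165 j) else (eT_165_173 j)
def eT_144_173 (j : ℕ) : ℕ := bif Nat.blt j 158 then (eT_144_158 j) else (eT_158_173 j)
def eT_115_173 (j : ℕ) : ℕ := bif Nat.blt j 144 then (eT_115_144 j) else (eT_144_173 j)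
def eT_174_176 (j : ℕ) : ℕ := bif Nat.blt j 175 then E_174 else E_175
def eT_173_176 (j : ℕ) : ℕ := bif Nat.blt j 174 then E_173 else (eT_174_176 j)
def eT_176_178 (j : ℕ) : ℕ := bif Nat.blt j 177 then E_176 else E_177
def eT_178_180 (j : ℕ) : ℕ := bif Nat.blt j 179 then E_178 else E_179
def eT_176_180 (j : ℕ) : ℕ := bif Nat.blt j 178 then (eT_176_178 j) else (eT_178_180 j)
def eT_173_180 (j : ℕ) : ℕ := bif Nat.blt j 176 then (eT_173_176 j) else (eT_176_180 j)
def eT_181_183 (j : ℕ) : ℕ := bif Nat.blt j 182 then E_181 else E_182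
def eT_180_183 (j : ℕ) : ℕ := bif Nat.blt j 181 then E_180 else (eT_181_183 j)
def eT_183_185 (j : ℕ) : ℕ := bif Nat.blt j 184 then E_183 else E_184
def eT_185_187 (j : ℕ) : ℕ := bif Nat.blt j 186 then E_185 else E_186
def eT_183_187 (j : ℕ) : ℕ := bif Nat.blt j 185 then (eT_183_185 j) else (eT_185_187 j)
def eT_180_187 (j : ℕ) : ℕ := bif Nat.blt j 183 then (eT_180_183 j) else (eT_183_187 j)
def eT_173_187 (j : ℕ) : ℕ := bif Nat.blt j 180 then (eT_173_180 j) else (eT_180_187 j)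
def eT_188_190 (j : ℕ) : ℕ := bif Nat.blt j 189 then E_188 else E_189
def eT_187_190 (j : ℕ) : ℕ := bif Nat.blt j 188 then E_187 else (eT_188_190 j)
def eT_190_192 (j : ℕ) : ℕ := bif Nat.blt j 191 then E_190 else E_191
def eT_192_194 (j : ℕ) : ℕ := bif Nat.blt j 193 then E_192 else E_193
def eT_190_194 (j : ℕ) : ℕ := bif Nat.blt j 192 then (eT_190_192 j) else (eT_192_194 j)
def eT_187_194 (j : ℕ) : ℕ := bif Nat.blt j 190 then (eT_187_190 j) else (eT_190_194 j)
def eT_194_196 (j : ℕ) : ℕ := bif Nat.blt j 195 then E_194 else E_195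
def eT_196_198 (j : ℕ) : ℕ := bif Nat.blt j 197 then E_196 else E_197
def eT_194_198 (j : ℕ) : ℕ := bif Nat.blt j 196 then (eT_194_196 j) else (eT_196_198 j)
def eT_198_200 (j : ℕ) : ℕ := bif Nat.blt j 199 then E_198 else E_199
def eT_200_202 (j : ℕ) : ℕ := bif Nat.blt j 201 then E_200 else E_201
def eT_198_202 (j : ℕ) : ℕ := bif Nat.blt j 200 then (eT_198_200 j) else (eT_200_202 j)
def eT_194_202 (j : ℕ) : ℕ := bif Nat.blt j 198 then (eT_194_198 j) else (eT_198_202 j)
def eT_187_202 (j : ℕ) : ℕ := bif Nat.blt j 194 then (eT_187_194 j) else (eT_194_202 j)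
def eT_173_202 (j : ℕ) : ℕ := bif Nat.blt j 187 then (eT_173_187 j) else (eT_187_202 j)
def eT_203_205 (j : ℕ) : ℕ := bif Nat.blt j 204 then E_203 else E_204
def eT_202_205 (j : ℕ) : ℕ := bif Nat.blt j 203 then E_202 else (eT_203_205 j)
def eT_205_207 (j : ℕ) : ℕ := bif Nat.blt j 206 then E_205 else E_206
def eT_207_209 (j : ℕ) : ℕ := bif Nat.blt j 208 then E_207 else E_208
def eT_205_209 (j : ℕ) : ℕ := bif Nat.blt j 207 then (eT_205_207 j) else (eT_207_209 j)
def eT_202_209 (j : ℕ) : ℕ := bif Nat.blt j 205 then (eT_202_205 j) else (eT_205_209 j)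
def eT_210_212 (j : ℕ) : ℕ := bif Nat.blt j 211 then E_210 else E_211
def eT_209_212 (j : ℕ) : ℕ := bif Nat.blt j 210 then E_209 else (eT_210_212 j)
def eT_212_214 (j : ℕ) : ℕ := bif Nat.blt j 213 then E_212 else E_213
def eT_214_216 (j : ℕ) : ℕ := bif Nat.blt j 215 then E_214 else E_215
def eT_212_216 (j : ℕ) : ℕ := bif Nat.blt j 214 then (eT_212_214 j) else (eT_214_216 j)
def eT_209_216 (j : ℕ) : ℕ := bif Nat.blt j 212 then (eT_209_212 j) else (eT_212_216 j)
def eT_202_216 (j : ℕ) : ℕ := bif Nat.blt j 209 then (eT_202_209 j) else (eT_209_216 j)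
def eT_217_219 (j : ℕ) : ℕ := bif Nat.blt j 218 then E_217 else E_218
def eT_216_219 (j : ℕ) : ℕ := bif Nat.blt j 217 then E_216 else (eT_217_219 j)
def eT_219_221 (j : ℕ) : ℕ := bif Nat.blt j 220 then E_219 else E_220
def eT_221_223 (j : ℕ) : ℕ := bif Nat.blt j 222 then E_221 else E_222
def eT_219_223 (j : ℕ) : ℕ := bif Nat.blt j 221 then (eT_219_221 j) else (eT_221_223 j)
def eT_216_223 (j : ℕ) : ℕ := bif Nat.blt j 219 then (eT_216_219 j) else (eT_219_223 j)
def eT_223_225 (j : ℕ) : ℕ := bif Nat.blt j 224 then E_223 else E_224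
def eT_225_227 (j : ℕ) : ℕ := bif Nat.blt j 226 then E_225 else E_226
def eT_223_227 (j : ℕ) : ℕ := bif Nat.blt j 225 then (eT_223_225 j) else (eT_225_227 j)
def eT_227_229 (j : ℕ) : ℕ := bif Nat.blt j 228 then E_227 else E_228
def eT_229_231 (j : ℕ) : ℕ := bif Nat.blt j 230 then E_229 else E_230
def eT_227_231 (j : ℕ) : ℕ := bif Nat.blt j 229 then (eT_227_229 j) else (eT_229_231 j)
def eT_223_231 (j : ℕ) : ℕ := bif Nat.blt j 227 then (eT_223_227 j) else (eT_227_231 j)
def eT_216_231 (j : ℕ) : ℕ := bif Nat.blt j 223 then (eT_216_223 j) else (eT_223_231 j)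
def eT_202_231 (j : ℕ) : ℕ := bif Nat.blt j 216 then (eT_202_216 j) else (eT_216_231 j)
def eT_173_231 (j : ℕ) : ℕ := bif Nat.blt j 202 then (eT_173_202 j) else (eT_202_231 j)
def eT_115_231 (j : ℕ) : ℕ := bif Nat.blt j 173 then (eT_115_173 j) else (eT_173_231 j)
def eT_0_231 (j : ℕ) : ℕ := bif Nat.blt j 115 then (eT_0_115 j) else (eT_115_231 j)
def eT (j : ℕ) : ℕ := (eT_0_231 j)
noncomputable def chunkF (h : ℕ) : ℕ := Nat.rec (motive := fun _ => ℕ) (eT 0) (fun n _ => eT (Nat.succ n)) h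
noncomputable def Eo (r : ℕ) : ℕ := Nat.land (Nat.shiftRight (chunkF (Nat.shiftRight r 8)) (Nat.mul (Nat.land r 255) 54)) 18014398509481983
def invT : ℕ := 0xffef7cefae78df6d74cf2c70beeb6caeaa689e69648e28607de75c6da6585d65544d24503ce34c2ca2481c61440c2040
def inv (y : ℕ) : ℕ := invOf invT y
def Wt_1_3 (j : ℕ) : List ℕ := bif Nat.blt j 2 then [nat_lit 2, nat_lit 9, nat_lit 2, nat_lit 9] else [nat_lit 3, nat_lit 9, nat_lit 3, nat_lit 9]
def Wt_0_3 (j : ℕ) : List ℕ := bif Nat.blt j 1 then [nat_lit 1, nat_lit 9, nat_lit 1, nat_lit 9] else (Wt_1_3 j)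
def Wt_4_6 (j : ℕ) : List ℕ := bif Nat.blt j 5 then [nat_lit 5, nat_lit 9, nat_lit 5, nat_lit 9] else [nat_lit 6, nat_lit 9, nat_lit 6, nat_lit 9]
def Wt_3_6 (j : ℕ) : List ℕ := bif Nat.blt j 4 then [nat_lit 4, nat_lit 9, nat_lit 4, nat_lit 9] else (Wt_4_6 j)
def Wt_0_6 (j : ℕ) : List ℕ := bif Nat.blt j 3 then (Wt_0_3 j) else (Wt_3_6 j)
def Wt_7_9 (j : ℕ) : List ℕ := bif Nat.blt j 8 then [nat_lit 2, nat_lit 8, nat_lit 2, nat_lit 8] else [nat_lit 4, nat_lit 8, nat_lit 4, nat_lit 8]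
def Wt_6_9 (j : ℕ) : List ℕ := bif Nat.blt j 7 then [nat_lit 1, nat_lit 8, nat_lit 1, nat_lit 8] else (Wt_7_9 j)
def Wt_10_12 (j : ℕ) : List ℕ := bif Nat.blt j 11 then [nat_lit 6, nat_lit 8, nat_lit 6, nat_lit 8] else [nat_lit 9, nat_lit 8, nat_lit 9, nat_lit 8, nat_lit 9, nat_lit 8]
def Wt_9_12 (j : ℕ) : List ℕ := bif Nat.blt j 10 then [nat_lit 5, nat_lit 8, nat_lit 5, nat_lit 8] else (Wt_10_12 j)
def Wt_6_12 (j : ℕ) : List ℕ := bif Nat.blt j 9 then (Wt_6_9 j) else (Wt_9_12 j)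
def Wt_0_12 (j : ℕ) : List ℕ := bif Nat.blt j 6 then (Wt_0_6 j) else (Wt_6_12 j)
def Wt_13_15 (j : ℕ) : List ℕ := bif Nat.blt j 14 then [nat_lit 5, nat_lit 3, nat_lit 5, nat_lit 3] else [nat_lit 6, nat_lit 3, nat_lit 6, nat_lit 3]
def Wt_12_15 (j : ℕ) : List ℕ := bif Nat.blt j 13 then [nat_lit 1, nat_lit 3, nat_lit 1, nat_lit 3] else (Wt_13_15 j)
def Wt_16_18 (j : ℕ) : List ℕ := bif Nat.blt j 17 then [nat_lit 9, nat_lit 3, nat_lit 9, nat_lit 3] else [nat_lit 3, nat_lit 2, nat_lit 3, nat_lit 2, nat_lit 3, nat_lit 2]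
def Wt_15_18 (j : ℕ) : List ℕ := bif Nat.blt j 16 then [nat_lit 8, nat_lit 3, nat_lit 8, nat_lit 3, nat_lit 8, nat_lit 3] else (Wt_16_18 j)
def Wt_12_18 (j : ℕ) : List ℕ := bif Nat.blt j 15 then (Wt_12_15 j) else (Wt_15_18 j)
def Wt_19_21 (j : ℕ) : List ℕ := bif Nat.blt j 20 then [nat_lit 6, nat_lit 2, nat_lit 6, nat_lit 2] else [nat_lit 8, nat_lit 2, nat_lit 8, nat_lit 2]
def Wt_18_21 (j : ℕ) : List ℕ := bif Nat.blt j 19 then [nat_lit 5, nat_lit 2, nat_lit 5, nat_lit 2] else (Wt_19_21 j)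
def Wt_22_24 (j : ℕ) : List ℕ := bif Nat.blt j 23 then [nat_lit 1, nat_lit 4, nat_lit 1, nat_lit 4] else [nat_lit 3, nat_lit 4, nat_lit 3, nat_lit 4, nat_lit 3, nat_lit 4]
def Wt_21_24 (j : ℕ) : List ℕ := bif Nat.blt j 22 then [nat_lit 9, nat_lit 2, nat_lit 9, nat_lit 2] else (Wt_22_24 j)
def Wt_18_24 (j : ℕ) : List ℕ := bif Nat.blt j 21 then (Wt_18_21 j) else (Wt_21_24 j)
def Wt_12_24 (j : ℕ) : List ℕ := bif Nat.blt j 18 then (Wt_12_18 j) else (Wt_18_24 j)
def Wt_0_24 (j : ℕ) : List ℕ := bif Nat.blt j 12 then (Wt_0_12 j) else (Wt_12_24 j)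
def Wt_25_27 (j : ℕ) : List ℕ := bif Nat.blt j 26 then [nat_lit 8, nat_lit 4, nat_lit 8, nat_lit 4] else [nat_lit 9, nat_lit 4, nat_lit 9, nat_lit 4]
def Wt_24_27 (j : ℕ) : List ℕ := bif Nat.blt j 25 then [nat_lit 6, nat_lit 4, nat_lit 6, nat_lit 4] else (Wt_25_27 j)
def Wt_28_30 (j : ℕ) : List ℕ := bif Nat.blt j 29 then [nat_lit 3, nat_lit 1, nat_lit 3, nat_lit 1] else [nat_lit 5, nat_lit 1, nat_lit 5, nat_lit 1]
def Wt_27_30 (j : ℕ) : List ℕ := bif Nat.blt j 28 then [nat_lit 2, nat_lit 1, nat_lit 2, nat_lit 1, nat_lit 2, nat_lit 1] else (Wt_28_30 j)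
def Wt_24_30 (j : ℕ) : List ℕ := bif Nat.blt j 27 then (Wt_24_27 j) else (Wt_27_30 j)
def Wt_31_33 (j : ℕ) : List ℕ := bif Nat.blt j 32 then [nat_lit 8, nat_lit 1, nat_lit 8, nat_lit 1] else [nat_lit 9, nat_lit 1, nat_lit 9, nat_lit 1]
def Wt_30_33 (j : ℕ) : List ℕ := bif Nat.blt j 31 then [nat_lit 6, nat_lit 1, nat_lit 6, nat_lit 1] else (Wt_31_33 j)
def Wt_34_36 (j : ℕ) : List ℕ := bif Nat.blt j 35 then [nat_lit 1, nat_lit 5, nat_lit 1, nat_lit 5] else [nat_lit 3, nat_lit 5, nat_lit 3, nat_lit 5]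
def Wt_33_36 (j : ℕ) : List ℕ := bif Nat.blt j 34 then [nat_lit 2, nat_lit 4, nat_lit 2, nat_lit 4] else (Wt_34_36 j)
def Wt_30_36 (j : ℕ) : List ℕ := bif Nat.blt j 33 then (Wt_30_33 j) else (Wt_33_36 j)
def Wt_24_36 (j : ℕ) : List ℕ := bif Nat.blt j 30 then (Wt_24_30 j) else (Wt_30_36 j)
def Wt_37_39 (j : ℕ) : List ℕ := bif Nat.blt j 38 then [nat_lit 8, nat_lit 5, nat_lit 8, nat_lit 5] else [nat_lit 9, nat_lit 5, nat_lit 9, nat_lit 5]
def Wt_36_39 (j : ℕ) : List ℕ := bif Nat.blt j 37 then [nat_lit 4, nat_lit 5, nat_lit 4, nat_lit 5, nat_lit 4, nat_lit 5] else (Wt_37_39 j)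
def Wt_40_42 (j : ℕ) : List ℕ := bif Nat.blt j 41 then [nat_lit 4, nat_lit 3, nat_lit 4, nat_lit 3, nat_lit 4, nat_lit 3] else [nat_lit 2, nat_lit 5, nat_lit 2, nat_lit 5]
def Wt_39_42 (j : ℕ) : List ℕ := bif Nat.blt j 40 then [nat_lit 2, nat_lit 3, nat_lit 2, nat_lit 3, nat_lit 2, nat_lit 3] else (Wt_40_42 j)
def Wt_36_42 (j : ℕ) : List ℕ := bif Nat.blt j 39 then (Wt_36_39 j) else (Wt_39_42 j)
def Wt_43_45 (j : ℕ) : List ℕ := bif Nat.blt j 44 then [nat_lit 3, nat_lit 6, nat_lit 3, nat_lit 6] else [nat_lit 4, nat_lit 6, nat_lit 4, nat_lit 6]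
def Wt_42_45 (j : ℕ) : List ℕ := bif Nat.blt j 43 then [nat_lit 1, nat_lit 6, nat_lit 1, nat_lit 6] else (Wt_43_45 j)
def Wt_45_47 (j : ℕ) : List ℕ := bif Nat.blt j 46 then [nat_lit 5, nat_lit 6, nat_lit 5, nat_lit 6, nat_lit 5, nat_lit 6] else [nat_lit 8, nat_lit 6, nat_lit 8, nat_lit 6]
def Wt_47_49 (j : ℕ) : List ℕ := bif Nat.blt j 48 then [nat_lit 9, nat_lit 6, nat_lit 9, nat_lit 6] else [nat_lit 3, nat_lit 8, nat_lit 3, nat_lit 8, nat_lit 3, nat_lit 8]
def Wt_45_49 (j : ℕ) : List ℕ := bif Nat.blt j 47 then (Wt_45_47 j) else (Wt_47_49 j)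
def Wt_42_49 (j : ℕ) : List ℕ := bif Nat.blt j 45 then (Wt_42_45 j) else (Wt_45_49 j)
def Wt_36_49 (j : ℕ) : List ℕ := bif Nat.blt j 42 then (Wt_36_42 j) else (Wt_42_49 j)
def Wt_24_49 (j : ℕ) : List ℕ := bif Nat.blt j 36 then (Wt_24_36 j) else (Wt_36_49 j)
def Wt_0_49 (j : ℕ) : List ℕ := bif Nat.blt j 24 then (Wt_0_24 j) else (Wt_24_49 j)
def Wt_50_52 (j : ℕ) : List ℕ := bif Nat.blt j 51 then [nat_lit 1, nat_lit 2, nat_lit 1, nat_lit 2, nat_lit 1, nat_lit 2] else [nat_lit 4, nat_lit 2, nat_lit 4, nat_lit 2]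
def Wt_49_52 (j : ℕ) : List ℕ := bif Nat.blt j 50 then [nat_lit 2, nat_lit 6, nat_lit 2, nat_lit 6] else (Wt_50_52 j)
def Wt_53_55 (j : ℕ) : List ℕ := bif Nat.blt j 54 then [nat_lit 8, nat_lit 9, nat_lit 8, nat_lit 9, nat_lit 8, nat_lit 9] else [nat_lit 6, nat_lit 5, nat_lit 6, nat_lit 5, nat_lit 6, nat_lit 5]
def Wt_52_55 (j : ℕ) : List ℕ := bif Nat.blt j 53 then [nat_lit 5, nat_lit 4, nat_lit 5, nat_lit 4, nat_lit 5, nat_lit 4] else (Wt_53_55 j)
def Wt_49_55 (j : ℕ) : List ℕ := bif Nat.blt j 52 then (Wt_49_52 j) else (Wt_52_55 j)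
def Wt_56_58 (j : ℕ) : List ℕ := bif Nat.blt j 57 then [nat_lit 3, nat_lit 5, nat_lit 4, nat_lit 3, nat_lit 1, nat_lit 2, nat_lit 3, nat_lit 9, nat_lit 8, nat_lit 3, nat_lit 5, nat_lit 4, nat_lit 3, nat_lit 1, nat_lit 2, nat_lit 3, nat_lit 9, nat_lit 8, nat_lit 3, nat_lit 5, nat_lit 4, nat_lit 3, nat_lit 1, nat_lit 2, nat_lit 3, nat_lit 9, nat_lit 8, nat_lit 3, nat_lit 5, nat_lit 4, nat_lit 3, nat_lit 1, nat_lit 2, nat_lit 3, nat_lit 9, nat_lit 8, nat_lit 3, nat_lit 5, nat_lit 4, nat_lit 3, nat_lit 1, nat_lit 2, nat_lit 3, nat_lit 9, nat_lit 8, nat_lit 3, nat_lit 5, nat_lit 4, nat_lit 3, nat_lit 1, nat_lit 2, nat_lit 3, nat_lit 9, nat_lit 8, nat_lit 3, nat_lit 5, nat_lit 4, nat_lit 3, nat_lit 1, nat_lit 2, nat_lit 3, nat_lit 9, nat_lit 8, nat_lit 3, nat_lit 5, nat_lit 4, nat_lit 3, nat_lit 1, nat_lit 2, nat_lit 3, nat_lit 9, nat_lit 8, nat_lit 3, nat_lit 5, nat_lit 4, nat_lit 3, nat_lit 1, nat_lit 2, nat_lit 3, nat_lit 9, nat_lit 8, nat_lit 3, nat_lit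 5, nat_lit 4, nat_lit 3, nat_lit 1, nat_lit 2, nat_lit 3, nat_lit 9, nat_lit 8] else [nat_lit 63, nat_lit 8, nat_lit 3, nat_lit 5, nat_lit 4, nat_lit 3, nat_lit 1, nat_lit 2, nat_lit 3, nat_lit 9, nat_lit 8, nat_lit 3, nat_lit 5, nat_lit 4, nat_lit 3, nat_lit 1, nat_lit 2, nat_lit 3, nat_lit 9, nat_lit 8, nat_lit 3, nat_lit 5, nat_lit 4, nat_lit 3, nat_lit 1, nat_lit 2, nat_lit 3, nat_lit 9, nat_lit 8, nat_lit 3, nat_lit 5, nat_lit 4, nat_lit 3, nat_lit 1, nat_lit 2, nat_lit 3, nat_lit 9, nat_lit 8, nat_lit 3, nat_lit 5, nat_lit 4, nat_lit 3, nat_lit 1, nat_lit 2, nat_lit 3, nat_lit 9, nat_lit 8, nat_lit 3, nat_lit 5, nat_lit 4, nat_lit 3, nat_lit 1, nat_lit 2, nat_lit 3, nat_lit 9, nat_lit 8, nat_lit 3, nat_lit 5, nat_lit 4, nat_lit 3, nat_lit 1, nat_lit 2, nat_lit 3, nat_lit 9, nat_lit 8, nat_lit 3, nat_lit 5, nat_lit 4, nat_lit 3, nat_lit 1, nat_lit 2, nat_lit 3, nat_lit 9, nat_lit 8, nat_lit 3, nat_lit 5, nat_lit 4, nat_lit 3, nat_lit 1, nat_lit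 2, nat_lit 3, nat_lit 9, nat_lit 8, nat_lit 3, nat_lit 5, nat_lit 4, nat_lit 3, nat_lit 1, nat_lit 2, nat_lit 3, nat_lit 9]
def Wt_55_58 (j : ℕ) : List ℕ := bif Nat.blt j 56 then [nat_lit 4, nat_lit 1, nat_lit 4, nat_lit 1] else (Wt_56_58 j)
def Wt_59_61 (j : ℕ) : List ℕ := bif Nat.blt j 60 then [nat_lit 63, nat_lit 2, nat_lit 63, nat_lit 2] else [nat_lit 63, nat_lit 4, nat_lit 63, nat_lit 4]
def Wt_58_61 (j : ℕ) : List ℕ := bif Nat.blt j 59 then [nat_lit 63, nat_lit 1, nat_lit 63, nat_lit 1, nat_lit 63] else (Wt_59_61 j)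
def Wt_55_61 (j : ℕ) : List ℕ := bif Nat.blt j 58 then (Wt_55_58 j) else (Wt_58_61 j)
def Wt_49_61 (j : ℕ) : List ℕ := bif Nat.blt j 55 then (Wt_49_55 j) else (Wt_55_61 j)
def Wt_62_64 (j : ℕ) : List ℕ := bif Nat.blt j 63 then [nat_lit 63, nat_lit 5, nat_lit 63, nat_lit 5] else [nat_lit 63, nat_lit 6, nat_lit 63, nat_lit 6]
def Wt_61_64 (j : ℕ) : List ℕ := bif Nat.blt j 62 then [nat_lit 63, nat_lit 1, nat_lit 63, nat_lit 1] else (Wt_62_64 j)
def Wt_65_67 (j : ℕ) : List ℕ := bif Nat.blt j 66 then [nat_lit 63, nat_lit 3, nat_lit 63, nat_lit 3] else [nat_lit 63, nat_lit 8, nat_lit 63, nat_lit 8]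
def Wt_64_67 (j : ℕ) : List ℕ := bif Nat.blt j 65 then [nat_lit 63, nat_lit 9, nat_lit 63, nat_lit 9] else (Wt_65_67 j)
def Wt_61_67 (j : ℕ) : List ℕ := bif Nat.blt j 64 then (Wt_61_64 j) else (Wt_64_67 j)
def Wt_68_70 (j : ℕ) : List ℕ := bif Nat.blt j 69 then [nat_lit 63, nat_lit 4, nat_lit 63, nat_lit 4, nat_lit 63] else [nat_lit 63, nat_lit 2, nat_lit 63, nat_lit 2, nat_lit 63]
def Wt_67_70 (j : ℕ) : List ℕ := bif Nat.blt j 68 then [nat_lit 63, nat_lit 63, nat_lit 63] else (Wt_68_70 j)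
def Wt_70_72 (j : ℕ) : List ℕ := bif Nat.blt j 71 then [nat_lit 63, nat_lit 5, nat_lit 63, nat_lit 5, nat_lit 63] else [nat_lit 63, nat_lit 9, nat_lit 63, nat_lit 9, nat_lit 63]
def Wt_72_74 (j : ℕ) : List ℕ := bif Nat.blt j 73 then [nat_lit 63, nat_lit 6, nat_lit 63, nat_lit 6, nat_lit 63] else [nat_lit 63, nat_lit 63, nat_lit 4, nat_lit 63, nat_lit 4]
def Wt_70_74 (j : ℕ) : List ℕ := bif Nat.blt j 72 then (Wt_70_72 j) else (Wt_72_74 j)
def Wt_67_74 (j : ℕ) : List ℕ := bif Nat.blt j 70 then (Wt_67_70 j) else (Wt_70_74 j)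
def Wt_61_74 (j : ℕ) : List ℕ := bif Nat.blt j 67 then (Wt_61_67 j) else (Wt_67_74 j)
def Wt_49_74 (j : ℕ) : List ℕ := bif Nat.blt j 61 then (Wt_49_61 j) else (Wt_61_74 j)
def Wt_75_77 (j : ℕ) : List ℕ := bif Nat.blt j 76 then [nat_lit 63, nat_lit 3, nat_lit 63, nat_lit 3, nat_lit 63] else [nat_lit 63, nat_lit 63, nat_lit 2, nat_lit 63, nat_lit 2]
def Wt_74_77 (j : ℕ) : List ℕ := bif Nat.blt j 75 then [nat_lit 2, nat_lit 2, nat_lit 63] else (Wt_75_77 j)
def Wt_78_80 (j : ℕ) : List ℕ := bif Nat.blt j 79 then [nat_lit 63, nat_lit 63, nat_lit 3, nat_lit 63, nat_lit 3] else [nat_lit 3, nat_lit 3, nat_lit 63]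
def Wt_77_80 (j : ℕ) : List ℕ := bif Nat.blt j 78 then [nat_lit 1, nat_lit 1, nat_lit 63] else (Wt_78_80 j)
def Wt_74_80 (j : ℕ) : List ℕ := bif Nat.blt j 77 then (Wt_74_77 j) else (Wt_77_80 j)
def Wt_81_83 (j : ℕ) : List ℕ := bif Nat.blt j 82 then [nat_lit 5, nat_lit 5, nat_lit 63] else [nat_lit 4, nat_lit 4, nat_lit 63]
def Wt_80_83 (j : ℕ) : List ℕ := bif Nat.blt j 81 then [nat_lit 63, nat_lit 8, nat_lit 63, nat_lit 8, nat_lit 63] else (Wt_81_83 j)
def Wt_84_86 (j : ℕ) : List ℕ := bif Nat.blt j 85 then [nat_lit 63, nat_lit 63, nat_lit 5, nat_lit 63, nat_lit 5] else [nat_lit 8, nat_lit 8, nat_lit 63]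
def Wt_83_86 (j : ℕ) : List ℕ := bif Nat.blt j 84 then [nat_lit 6, nat_lit 6, nat_lit 63] else (Wt_84_86 j)
def Wt_80_86 (j : ℕ) : List ℕ := bif Nat.blt j 83 then (Wt_80_83 j) else (Wt_83_86 j)
def Wt_74_86 (j : ℕ) : List ℕ := bif Nat.blt j 80 then (Wt_74_80 j) else (Wt_80_86 j)
def Wt_87_89 (j : ℕ) : List ℕ := bif Nat.blt j 88 then [nat_lit 9, nat_lit 9, nat_lit 63] else [nat_lit 63, nat_lit 63, nat_lit 1, nat_lit 63, nat_lit 1]
def Wt_86_89 (j : ℕ) : List ℕ := bif Nat.blt j 87 then [nat_lit 63, nat_lit 63, nat_lit 6, nat_lit 63, nat_lit 6] else (Wt_87_89 j)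
def Wt_90_92 (j : ℕ) : List ℕ := bif Nat.blt j 91 then [nat_lit 8, nat_lit 63, nat_lit 8, nat_lit 63] else [nat_lit 63, nat_lit 1, nat_lit 2, nat_lit 3, nat_lit 9, nat_lit 8, nat_lit 3, nat_lit 5, nat_lit 4, nat_lit 3, nat_lit 1, nat_lit 2, nat_lit 3, nat_lit 9, nat_lit 8, nat_lit 3, nat_lit 5, nat_lit 4, nat_lit 3, nat_lit 1, nat_lit 2, nat_lit 3, nat_lit 9, nat_lit 8, nat_lit 3, nat_lit 5, nat_lit 4, nat_lit 3, nat_lit 1, nat_lit 2, nat_lit 3, nat_lit 9, nat_lit 8, nat_lit 3, nat_lit 5, nat_lit 4, nat_lit 3, nat_lit 1, nat_lit 2, nat_lit 3, nat_lit 9, nat_lit 8, nat_lit 3, nat_lit 5, nat_lit 4, nat_lit 3, nat_lit 1, nat_lit 2, nat_lit 3, nat_lit 9, nat_lit 8, nat_lit 3, nat_lit 5, nat_lit 4, nat_lit 3, nat_lit 1, nat_lit 2, nat_lit 3, nat_lit 9, nat_lit 8, nat_lit 3, nat_lit 5, nat_lit 4, nat_lit 3, nat_lit 1, nat_lit 2, nat_lit 3, nat_lit 9, nat_lit 8, nat_lit 3, nat_lit 5, nat_lit 4, nat_lit 3, nat_lit 1, nat_lit 2, nat_lit 3, nat_lit 9, nat_lit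 8, nat_lit 3, nat_lit 5, nat_lit 4, nat_lit 3, nat_lit 1, nat_lit 2, nat_lit 3, nat_lit 9, nat_lit 8, nat_lit 3, nat_lit 5, nat_lit 4, nat_lit 3]
def Wt_89_92 (j : ℕ) : List ℕ := bif Nat.blt j 90 then [nat_lit 5, nat_lit 63, nat_lit 5, nat_lit 63] else (Wt_90_92 j)
def Wt_86_92 (j : ℕ) : List ℕ := bif Nat.blt j 89 then (Wt_86_89 j) else (Wt_89_92 j)
def Wt_93_95 (j : ℕ) : List ℕ := bif Nat.blt j 94 then [nat_lit 63, nat_lit 5, nat_lit 4, nat_lit 3, nat_lit 1, nat_lit 2, nat_lit 3, nat_lit 9, nat_lit 8, nat_lit 3, nat_lit 5, nat_lit 4, nat_lit 3, nat_lit 1, nat_lit 2, nat_lit 3, nat_lit 9, nat_lit 8, nat_lit 3, nat_lit 5, nat_lit 4, nat_lit 3, nat_lit 1, nat_lit 2, nat_lit 3, nat_lit 9, nat_lit 8, nat_lit 3, nat_lit 5, nat_lit 4, nat_lit 3, nat_lit 1, nat_lit 2, nat_lit 3, nat_lit 9, nat_lit 8, nat_lit 3, nat_lit 5, nat_lit 4, nat_lit 3, nat_lit 1, nat_lit 2, nat_lit 3, nat_lit 9, nat_lit 8, nat_lit 3, nat_lit 5, nat_lit 4, nat_lit 3, nat_lit 1, nat_lit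 2, nat_lit 3, nat_lit 9, nat_lit 8, nat_lit 3, nat_lit 5, nat_lit 4, nat_lit 3, nat_lit 1, nat_lit 2, nat_lit 3, nat_lit 9, nat_lit 8, nat_lit 3, nat_lit 5, nat_lit 4, nat_lit 3, nat_lit 1, nat_lit 2, nat_lit 3, nat_lit 9, nat_lit 8, nat_lit 3, nat_lit 5, nat_lit 4, nat_lit 3, nat_lit 1, nat_lit 2, nat_lit 3, nat_lit 9, nat_lit 8, nat_lit 3, nat_lit 5, nat_lit 4, nat_lit 3, nat_lit 1, nat_lit 2, nat_lit 3, nat_lit 9, nat_lit 8, nat_lit 3] else [nat_lit 8, nat_lit 9, nat_lit 3, nat_lit 2, nat_lit 1, nat_lit 3, nat_lit 4, nat_lit 5, nat_lit 3, nat_lit 8, nat_lit 9, nat_lit 3, nat_lit 2, nat_lit 1, nat_lit 3, nat_lit 4, nat_lit 5, nat_lit 3, nat_lit 8, nat_lit 9, nat_lit 3, nat_lit 2, nat_lit 1, nat_lit 3, nat_lit 4, nat_lit 5, nat_lit 3, nat_lit 8, nat_lit 9, nat_lit 3, nat_lit 2, nat_lit 1, nat_lit 3, nat_lit 4, nat_lit 5, nat_lit 3, nat_lit 8, nat_lit 9, nat_lit 3, nat_lit 2, nat_lit 1, nat_lit 3, nat_lit 4, nat_lit 5, nat_lit 3, nat_lit 8, nat_lit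 9, nat_lit 3, nat_lit 2, nat_lit 1, nat_lit 3, nat_lit 4, nat_lit 5, nat_lit 3, nat_lit 8, nat_lit 9, nat_lit 3, nat_lit 2, nat_lit 1, nat_lit 3, nat_lit 4, nat_lit 5, nat_lit 3, nat_lit 8, nat_lit 9, nat_lit 3, nat_lit 2, nat_lit 1, nat_lit 3, nat_lit 4, nat_lit 5, nat_lit 3, nat_lit 8, nat_lit 9, nat_lit 3, nat_lit 2, nat_lit 1, nat_lit 3, nat_lit 4, nat_lit 5, nat_lit 3, nat_lit 8, nat_lit 9, nat_lit 3, nat_lit 2, nat_lit 1, nat_lit 3, nat_lit 4, nat_lit 5, nat_lit 3]
def Wt_92_95 (j : ℕ) : List ℕ := bif Nat.blt j 93 then [nat_lit 63, nat_lit 6, nat_lit 4, nat_lit 6, nat_lit 4] else (Wt_93_95 j)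
def Wt_95_97 (j : ℕ) : List ℕ := bif Nat.blt j 96 then [nat_lit 4, nat_lit 3, nat_lit 1, nat_lit 2, nat_lit 3, nat_lit 9, nat_lit 8, nat_lit 3, nat_lit 5, nat_lit 4, nat_lit 3, nat_lit 1, nat_lit 2, nat_lit 3, nat_lit 9, nat_lit 8, nat_lit 3, nat_lit 5, nat_lit 4, nat_lit 3, nat_lit 1, nat_lit 2, nat_lit 3, nat_lit 9, nat_lit 8, nat_lit 3, nat_lit 5, nat_lit 4, nat_lit 3, nat_lit 1, nat_lit 2, nat_lit 3, nat_lit 9, nat_lit 8, nat_lit 3, nat_lit 5, nat_lit 4, nat_lit 3, nat_lit 1, nat_lit 2, nat_lit 3, nat_lit 9, nat_lit 8, nat_lit 3, nat_lit 5, nat_lit 4, nat_lit 3, nat_lit 1, nat_lit 2, nat_lit 3, nat_lit 9, nat_lit 8, nat_lit 3, nat_lit 5, nat_lit 4, nat_lit 3, nat_lit 1, nat_lit 2, nat_lit 3, nat_lit 9, nat_lit 8, nat_lit 3, nat_lit 5, nat_lit 4, nat_lit 3, nat_lit 1, nat_lit 2, nat_lit 3, nat_lit 9, nat_lit 8, nat_lit 3, nat_lit 5, nat_lit 4, nat_lit 3, nat_lit 1, nat_lit 2, nat_lit 3, nat_lit 9, nat_lit 8, nat_lit 3, nat_lit 5, nat_lit 4, nat_lit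 3, nat_lit 1, nat_lit 2, nat_lit 3, nat_lit 9, nat_lit 8, nat_lit 3, nat_lit 5] else [nat_lit 63, nat_lit 3, nat_lit 2, nat_lit 3, nat_lit 2, nat_lit 3, nat_lit 2]
def Wt_97_99 (j : ℕ) : List ℕ := bif Nat.blt j 98 then [nat_lit 63, nat_lit 3, nat_lit 8, nat_lit 3, nat_lit 8, nat_lit 3, nat_lit 8] else [nat_lit 63, nat_lit 1, nat_lit 3, nat_lit 1, nat_lit 3]
def Wt_95_99 (j : ℕ) : List ℕ := bif Nat.blt j 97 then (Wt_95_97 j) else (Wt_97_99 j)
def Wt_92_99 (j : ℕ) : List ℕ := bif Nat.blt j 95 then (Wt_92_95 j) else (Wt_95_99 j)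
def Wt_86_99 (j : ℕ) : List ℕ := bif Nat.blt j 92 then (Wt_86_92 j) else (Wt_92_99 j)
def Wt_74_99 (j : ℕ) : List ℕ := bif Nat.blt j 86 then (Wt_74_86 j) else (Wt_86_99 j)
def Wt_49_99 (j : ℕ) : List ℕ := bif Nat.blt j 74 then (Wt_49_74 j) else (Wt_74_99 j)
def Wt_0_99 (j : ℕ) : List ℕ := bif Nat.blt j 49 then (Wt_0_49 j) else (Wt_49_99 j)
def Wt (j : ℕ) : List ℕ := (Wt_0_99 j)
def W (j : ℕ) : List ℕ := bif Nat.blt j 99 then Wt j else []
theorem W_ge (j : ℕ) (h : 99 ≤ j) : W j = [] := by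
  unfold W
  rw [blt_false_of_le h]
  rfl
def Hl : List ℕ := [nat_lit 1, nat_lit 2, nat_lit 3, nat_lit 4, nat_lit 5, nat_lit 6, nat_lit 8]
def isH (y : ℕ) : Bool := List.elem y Hl
def Rb : List (List ℕ) := [[nat_lit 1, nat_lit 1],
  [nat_lit 2, nat_lit 1, nat_lit 2, nat_lit 1, nat_lit 2, nat_lit 1],
  [nat_lit 3, nat_lit 1, nat_lit 3, nat_lit 1],
  [nat_lit 4, nat_lit 1, nat_lit 4, nat_lit 1],
  [nat_lit 5, nat_lit 1, nat_lit 5, nat_lit 1],
  [nat_lit 6, nat_lit 1, nat_lit 6, nat_lit 1],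
  [nat_lit 8, nat_lit 1, nat_lit 8, nat_lit 1],
  [nat_lit 9, nat_lit 1, nat_lit 9, nat_lit 1],
  [nat_lit 2, nat_lit 2],
  [nat_lit 3, nat_lit 2, nat_lit 3, nat_lit 2, nat_lit 3, nat_lit 2],
  [nat_lit 4, nat_lit 2, nat_lit 4, nat_lit 2],
  [nat_lit 5, nat_lit 2, nat_lit 5, nat_lit 2],
  [nat_lit 6, nat_lit 2, nat_lit 6, nat_lit 2],
  [nat_lit 8, nat_lit 2, nat_lit 8, nat_lit 2],
  [nat_lit 9, nat_lit 2, nat_lit 9, nat_lit 2],
  [nat_lit 3, nat_lit 3],
  [nat_lit 4, nat_lit 3, nat_lit 4, nat_lit 3, nat_lit 4, nat_lit 3],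
  [nat_lit 5, nat_lit 3, nat_lit 5, nat_lit 3],
  [nat_lit 6, nat_lit 3, nat_lit 6, nat_lit 3],
  [nat_lit 8, nat_lit 3, nat_lit 8, nat_lit 3, nat_lit 8, nat_lit 3],
  [nat_lit 9, nat_lit 3, nat_lit 9, nat_lit 3],
  [nat_lit 4, nat_lit 4],
  [nat_lit 5, nat_lit 4, nat_lit 5, nat_lit 4, nat_lit 5, nat_lit 4],
  [nat_lit 6, nat_lit 4, nat_lit 6, nat_lit 4],
  [nat_lit 8, nat_lit 4, nat_lit 8, nat_lit 4],
  [nat_lit 9, nat_lit 4, nat_lit 9, nat_lit 4],
  [nat_lit 5, nat_lit 5],
  [nat_lit 6, nat_lit 5, nat_lit 6, nat_lit 5, nat_lit 6, nat_lit 5],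
  [nat_lit 8, nat_lit 5, nat_lit 8, nat_lit 5],
  [nat_lit 9, nat_lit 5, nat_lit 9, nat_lit 5],
  [nat_lit 6, nat_lit 6],
  [nat_lit 8, nat_lit 6, nat_lit 8, nat_lit 6],
  [nat_lit 9, nat_lit 6, nat_lit 9, nat_lit 6],
  [nat_lit 8, nat_lit 8],
  [nat_lit 9, nat_lit 8, nat_lit 9, nat_lit 8, nat_lit 9, nat_lit 8],
  [nat_lit 9, nat_lit 9],
  [nat_lit 9, nat_lit 8, nat_lit 3, nat_lit 5, nat_lit 4, nat_lit 3, nat_lit 1, nat_lit 2, nat_lit 3, nat_lit 9, nat_lit 8, nat_lit 3, nat_lit 5, nat_lit 4, nat_lit 3, nat_lit 1, nat_lit 2, nat_lit 3, nat_lit 9, nat_lit 8, nat_lit 3, nat_lit 5, nat_lit 4, nat_lit 3, nat_lit 1, nat_lit 2, nat_lit 3, nat_lit 9, nat_lit 8, nat_lit 3, nat_lit 5, nat_lit 4, nat_lit 3, nat_lit 1, nat_lit 2, nat_lit 3, nat_lit 9, nat_lit 8, nat_lit 3, nat_lit 5, nat_lit 4, nat_lit 3, nat_lit 1, nat_lit 2, nat_lit 3, nat_lit 9, nat_lit 8, nat_lit 3, nat_lit 5, nat_lit 4, nat_lit 3, nat_lit 1, nat_lit 2, nat_lit 3, nat_lit 9, nat_lit 8, nat_lit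 3, nat_lit 5, nat_lit 4, nat_lit 3, nat_lit 1, nat_lit 2, nat_lit 3, nat_lit 9, nat_lit 8, nat_lit 3, nat_lit 5, nat_lit 4, nat_lit 3, nat_lit 1, nat_lit 2, nat_lit 3, nat_lit 9, nat_lit 8, nat_lit 3, nat_lit 5, nat_lit 4, nat_lit 3, nat_lit 1, nat_lit 2, nat_lit 3, nat_lit 9, nat_lit 8, nat_lit 3, nat_lit 5, nat_lit 4, nat_lit 3, nat_lit 1, nat_lit 2, nat_lit 3],
  []]
def spT_0_2 (j : ℕ) : ℕ := bif Nat.blt j 1 then nat_lit 0x3c00000034000000000000002a000000100000000000002048000060480000200600002036000000440000202c00002014000000020000001800000026000020400000203e000000360000002e000000240000000a0000001600002020000000120000203a000020380000002c0000002200000008000000140000200e0000200c0000200a00002008000020040000200200002032000020300000202e00000020000000060000201c0000201a0000201800002016000020120000202800002026000020240000202200000004000020440000003e00000038000000300000001a0000000c000000400000003a00000032000000280000001c0000000e else nat_lit 0x200400002026000000120000a04800010049000060480000002e0000c048000000420000003400000000000000460000003c00000042000000340000003c0000002a00000034000000420000001e0000001e00000000000000100000001e000000100000002a0000003c0000004600000034000000100000002a0000004a000000420000001e00000046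
def spT (j : ℕ) : ℕ := (spT_0_2 j)
def sp (j : ℕ) : ℕ := Nat.land (Nat.shiftRight (spT (Nat.shiftRight j 6)) (Nat.mul (Nat.land j 63) 32)) 4294967295
theorem Eo_lt (r : ℕ) : Eo r < 18014398509481984 := land54_lt _
def cT_1_3 (j : ℕ) : ℕ := bif Nat.blt j 2 then nat_lit 0xff0000fe0000fd0000fc0000fb0000fa0000f90000f80000f70000f60000f50000f40000f30000f20000f10000f00000ef0000ee0000ed0000ec0000eb0000ea0000e90000e80000e70000e60000e50000e40000e30000e20000e10000e00000df0000de0000dd0000dc0000db0000da0000d90000d80000d70000d60000d50000d40000d30000d20000d10000d00000cf0000ce0000cd0000cc0000cb0000ca0000c90000c80000c70000c60000c50000c40000c30000c20000c10000c00000bf0000be0000bd0000bc0000bb0000ba0000b90000b80000b70000b60000b50000b40000b30000b20000b10000b00000af0000ae0000ad0000ac0000ab0000aa0000a90000a80000a70000a60000a50000a40000a30000a20000a10000a000009f00009e00009d00009c00009b00009a00009900009800009700009600009500009400009300009200009100009000008f00008e00008d00008c00008b00008a000089000088000087000086000085000084000083000082000081000080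 else nat_lit 0x18700018600018500018100018000017f00017e00017d00017c00017b00017a00017900017800017500017400017300017200017100017000016f00016e00016d00016c00016b00016a00016900016800016700016600016500016400016300016200016100016000015f00015e00015d00015c00015b00015a00015900015800015700015600015500015400015300015200015100015000014f00014e00014d00014c00014b00014a00014900014800014700014600014500014400014300014200014100014000013f00013e00013d00013c00013b00013a00013900013800013700013600013500013400013300013200013100013000012c00012b00012a00012900012800012700012600012500012400012300012200012100012000011f00011e00011d00011c00011b00011a00011900011800011700011600011500011400011300011200011100011000010f00010e00010d00010c00010b00010a000109000108000107000106000105000104000103000102000101000100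
def cT_0_3 (j : ℕ) : ℕ := bif Nat.blt j 1 then nat_lit 0x7f00007e00007d00007c00007b00007a00007900007800007700007600007500007400007300007200007100007000006f00006e00006d00006c00006b00006a00006900006800006700006600006500006400006300006200006100006000005f00005e00005d00005c00005b00005a00005900005800005700005600005500005400005300005200005100005000004f00004e00004d00004c00004b00004a00004900004800004700004600004500004400004300004200004100004000003f00003e00003d00003c00003b00003a00003900003800003700003600003500003400003300003200003100003000002f00002e00002d00002c00002b00002a00002900002800002700002600002500002400002300002200002100002000001f00001e00001d00001c00001b00001a00001900001800001700001600001500001400001300001200001100001000000f00000e00000d00000c00000b00000a000009000008000007000006000005000004000003000002000001000000 else (cT_1_3 j)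
def cT_4_6 (j : ℕ) : ℕ := bif Nat.blt j 5 then nat_lit 0x2c20002c10002c00002bf0002be0002bd0002bc0002bb0002ba0002b90002b80002b70002b60002b50002b40002b30002b20002b10002b00002af0002ae0002ad0002ac0002ab0002aa0002a90002a80002a70002a60002a50002a400029f00029900029800029700029600029500029400029200029100029000028f00028e00028600028300028200028100028000027900027800027500027300027200027100027000026f00026e00026d00026c00026b00026a00026900026800026700026600026500026400026300026200026100026000025f00025e00025d00025c00025b00025a00025900025800025700025600025500025400025300025200025100025000024f00024e00024a00024900024800024700024600024500024400024300024200024100024000023f00023e00023d00023c00023b00023a00023900023800023700023600023500023400023300023200023100023000022f00022e00022d00022c00022b00022a000229000228000227000226000225000224 else nat_lit 0x37500037400037300037200037100037000036f00036e00036d00036c00036b00036a00036900036800036700036300036000035f00035d00035c00035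b00035800035600035500035400035300035200034600034500034400034300033000032f00032e00032d00032b00032900032800032700032600032500032400032300032200032000031f00031e00031d00031c00031b00031a00031900031800031700031600031500031400031300031200031100031000030f00030e00030d00030c00030b00030a0003090003080003070003060003050003040003030003020003010002fa0002f90002f60002f50002f40002f30002f20002f10002f00002ef0002ec0002eb0002ea0002e90002e80002e70002e60002e50002e40002e30002e20002e10002e00002df0002de0002dd0002dc0002db0002da0002d90002d80002d70002d60002d50002d40002d30002d20002d10002d00002cf0002ce0002cd0002cc0002cb0002ca0002c90002c80002c70002c60002c50002c40002c3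
def cT_3_6 (j : ℕ) : ℕ := bif Nat.blt j 4 then nat_lit 0x22300022200022100022000021f00021e00021d00021c00021b00021a00021900021800021700021600021500021400021300021200021100021000020f00020e00020d00020c0002040002030002010001fe0001fd0001fc0001fb0001fa0001f90001f80001f70001f60001f50001f20001ed0001ec0001eb0001ea0001e90001e80001e40001e30001e20001e10001e00001df0001de0001dd0001dc0001db0001da0001d90001d80001d70001d60001d50001d40001d30001d20001d10001d00001cf0001ce0001cd0001cc0001cb0001ca0001c90001c80001c70001c60001c50001c40001c30001c20001c10001c00001bf0001be0001bd0001bc0001bb0001ba0001b90001b80001b70001b60001b50001b40001b30001b20001b10001b00001af0001ae0001ad0001ac0001ab0001aa0001a90001a80001a70001a60001a50001a40001a30001a20001a10001a000019f00019e00019d00019c00019b00019a000199000198000197000196000195000194000193000189000188 else (cT_4_6 j)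
def cT_0_6 (j : ℕ) : ℕ := bif Nat.blt j 3 then (cT_0_3 j) else (cT_3_6 j)
def cT_7_9 (j : ℕ) : ℕ := bif Nat.blt j 8 then nat_lit 0x4d30004d20004d10004cb0004ca0004c90004c80004c70004c60004c40004c30004c20004c10004c00004bf0004be0004bd0004bc0004ba0004b80004b70004b60004b50004b40004b30004b20004b10004b00004af0004ad0004ac0004ab0004aa0004a90004a80004a70004a60004a50004a40004a30004a20004a10004a000049f00049e00049d00049c00049b00049a00049900049800049700049600049500049400049300049000048f00048e00048d00048c00048b00048a00048900048800048700048600048400048100048000047f00047e00047d00047c00047b00047a00047900047800047700047600047500047400047300047200047100047000046f00046e00046d00046b00046800046700046600046500046400046300046200046100046000045f00045e00045d00045c00045b00045900045700045500045400045200045100044f00044d00044b00044a00044900043a00043900043700041e00041800041700041600041500041400041300041000040e00040d else nat_lit 0x5dd0005dc0005db0005da0005d90005d80005d70005d6000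5d50005d30005ce0005cd0005cc0005ca0005c90005c70005c50005c10005c00005bf0005be0005bd0005bc0005bb0005ba0005b90005b80005b70005b60005b50005b40005b30005b20005b10005af0005aa0005a90005a80005a70005a60005a50005a40005a30005a20005a10005a000059e00059b00059a00059800059000058f00058d00058c00058800058400057200057100057000056f00054f00054700054600054500053d00053c00053b00053a00053900053800053700053500053400053300053200053100053000052f00052e00052d00052c00052b00052a00052900052800052700052600052500052400052300052200052000051f00051e00051d00051c00051b00051a00051900051800051700051600051500051400051300051200051100051000050e00050d00050b0004fa0004f10004f00004e10004e00004df0004de0004dd0004dc0004db0004da0004d90004d80004d70004d60004d50004d4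
def cT_6_9 (j : ℕ) : ℕ := bif Nat.blt j 7 then nat_lit 0x40c00040b00040a0004090004080004070004060004050004040004030004020004010004000003ff0003fe0003fd0003fc0003fb0003fa0003f90003f80003f70003f60003f50003f40003f30003f20003f10003f00003ef0003ee0003ed0003ec0003eb0003ea0003e90003e80003e70003d90003d80003d50003d40003d30003d20003cc0003cb0003ca0003c90003c80003c70003c60003c50003c40003c30003c20003c10003c00003bf0003be0003bd0003bc0003ba0003b80003b70003b60003b50003b40003b30003b20003b10003b00003af0003ae0003ad0003ac0003ab0003aa0003a80003a70003a60003a50003a40003a30003a20003a10003a000039f00039e00039d00039c00039b00039a00039900039800039700039600039500039400039300039200039100039000038f00038e00038d00038c00038b00038a00038900038800038700038600038500038400038300038200038100038000037f00037e00037d00037c00037b00037a000379000378000377000376 else (cT_7_9 j)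
def cT_10_12 (j : ℕ) : ℕ := bif Nat.blt j 11 then nat_lit 0x7cf0007ce0007cd0007cc0007cb0007c20007c10007bd0007bc0007bb0007ba0007b90007b80007b70007b60007b40007b20007b10007b00007af0007ae0007ad0007ab0007a90007a80007a50007a40007a30007a20007a10007a000079f00079e00079d00079c00079b00079a00079900079800079700079600079500079400079300079200079100079000078f00078e00078d00078c00078b00078a00078900078200078100078000077f00077e00077d00077c00077b00077a00077900077800077700077600077500077400077300077200077000076a00076900076800076700076400076300076000075d00075500075400075300075200075100075000074f00074e00074d00074c00074b00074a00074900074800074700074600074500074400074300074200074100074000073e00073900073800073700073600073500073400073300073200073100073000072f00072e00072d00072c00072b0007290007240007230007200007180007140007130006fd0006fc0006fb else nat_lit 0x93500093400093300093200093100093000092f00092e00092d00092c00092b00092a00092900092800092700092600092500092400092300092200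092100092000091f00091d00091c00091700091600091500091400091300091200091100091000090f00090e00090d00090c00090b00090a0009090009080009070009060009050009040009030009010008fc0008fb0008fa0008f70008ec0008ea0008e90008d80008d70008a70008a600089400089300088d00088c00088b00088a00088900088800088700088400088300088200088100088000087f00087e00087d00087c00087b00087a00087900087800087700087600087500087400087300087200087100087000086d00086c00086a00086900086800086700086600086500086400086200086100086000085f00085e00085d00085c00085b00085a00085900085800085700085500085300085200084e00084d00084c00084800081e0007fc0007f10007ec0007e30007e20007da0007d80007d60007d50007d40007d0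
def cT_9_12 (j : ℕ) : ℕ := bif Nat.blt j 10 then nat_lit 0x6d80006cf0006ce0006bf0006be0006bc0006bb0006b80006b70006b60006b50006b40006b30006b20006b10006b00006af0006ae0006ad0006ac0006ab0006aa0006a90006a80006a70006a60006a50006a40006a30006a20006a10006a000069e00069d00069c00069b00069a00069900069800069700069600069500069400069300069200069100069000068f00068e00068d00068b00068a00068900068600068500068200065e00064500064400064100063f00063e00063c00063b00063800063500062d00062c00062b00062700062600062500062400062300062200062100061f00061e00061d00061c00061600061500061400061300061200061100060f00060e00060d00060c00060b00060a0006080006070006060006050006040006030006010005ff0005fe0005fc0005fb0005fa0005f90005f80005f70005f60005f50005f40005f30005f20005f10005f00005ef0005ee0005ed0005ec0005eb0005ea0005e90005e80005e70005e60005e10005e00005df0005de else (cT_10_12 j)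
def cT_6_12 (j : ℕ) : ℕ := bif Nat.blt j 9 then (cT_6_9 j) else (cT_9_12 j)
def cT_0_12 (j : ℕ) : ℕ := bif Nat.blt j 6 then (cT_0_6 j) else (cT_6_12 j)
def cT_13_15 (j : ℕ) : ℕ := bif Nat.blt j 14 then nat_lit 0xb93000b92000b91000b90000b8f000b8a000b89000b85000b84000b77000b76000b75000b74000b73000b72000b71000b70000b6f000b6e000b6d000b6c000b6b000b6a000b69000b68000b67000b66000b65000b64000b63000b62000b61000b60000b5f000b5e000b5d000b5c000b5b000b5a000b59000b58000b57000b56000b55000b52000b51000b50000b49000b48000b47000b46000b45000b44000b43000b42000b41000b40000b3f000b3e000b3d000b3c000b3b000b3a000b39000b38000b37000b36000b35000b34000b33000b32000b31000b30000b2f000b2e000b2d000b2c000b2a000b29000b24000b23000b22000b21000b20000b1d000b1c000b0e000b0c000b02000b01000ad1000ac0000ab8000ab7000ab4000ab3000ab2000aac000aab000aaa000aa9000aa7000aa6000aa5000aa4000aa3000aa2000aa1000aa0000a9f000a9e000a9d000a9c000a9b000a9a000a99000a97000a96000a95000a94000a93000a8f000a8d000a8c000a8a000a89000a88000a86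 else nat_lit 0xd08000d05000d03000d02000cff000cfc000cfb000cfa000cf9000cf7000cf6000cf5000cf3000cf2000cf1000cf0000cef000cee000ceb000ce9000ce8000ce6000ce5000cdf000cde000cdd000c5e000c4e000c4d000c4b000c42000c41000c40000c3f000c3e000c3a000c38000c37000c21000c20000c1f000c1e000c1d000c1c000c1b000c12000c11000c0f000c0d000c0c000c0b000c0a000c09000c07000c06000c04000bfc000bfb000bf8000bf7000bf6000bf0000bef000bee000bed000bec000beb000bea000be9000be8000be7000be6000be5000be4000be3000be2000be1000be0000bdf000bde000bdd000bdb000bda000bd9000bd8000bd7000bd6000bd5000bd4000bd3000bd2000bd1000bd0000bcf000bce000bcd000bc3000bc1000bc0000bbe000bbd000bbc000bb9000bb8000bb7000bb6000bb5000bb3000bb2000bb1000bb0000baf000bae000bad000bac000bab000ba8000ba7000ba6000b9e000b9d000b9c000b9b000b9a000b99000b98000b97000b96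
def cT_12_15 (j : ℕ) : ℕ := bif Nat.blt j 13 then nat_lit 0xa84000a82000a80000a7f000a7e000a7d000a7c000a7b000a7a000a79000a78000a77000a76000a73000a71000a6d000a6c000a6b000a6a000a65000a64000a0b0009f40009f30009e70009e20009e10009da0009d90009d80009d70009d50009d40009d30009d20009c00009be0009bd0009bb0009ba0009b90009b80009b70009b10009b00009af0009ae0009ad0009ac0009ab0009aa0009a80009a60009a500099f00099e00099d00099c00099b00099a00099900099600099500099400099300099200099100099000098f00098e00098d00098c00098b00098a00098900098800098700098600098500098400098300098200098100098000097f00097e00097d00097c00097b00097400097300097100097000096f00096e00096d00096c00096b00096a00096900096800096700096600096500096400096300096200096100096000095f00095d00095c00095600095500095400095300095200095100094e00094d00094c00094800094400093a000939000938000937000936 else (cT_13_15 j)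
def cT_16_18 (j : ℕ) : ℕ := bif Nat.blt j 17 then nat_lit 0xfd7000fd2000fd1000fd0000fce000fcd000fcc000fcb000fca000fc9000fc8000fc7000fc5000fc4000fc3000fc1000fbe000fbc000fbb000fb5000fb4000fb3000f0a000f09000f07000f05000f04000f03000efa000ee4000ee3000ee1000ee0000edf000ed1000ece000ecd000ecc000eca000ec9000ec7000ec6000ec5000eb9000eb7000eb6000eaa000ea9000ea8000ea7000ea6000ea5000ea4000ea3000ea2000ea1000ea0000e9f000e9e000e9d000e9c000e9b000e9a000e99000e98000e97000e96000e95000e94000e93000e8e000e8d000e8b000e8a000e89000e88000e87000e86000e85000e84000e83000e82000e81000e80000e7f000e7e000e7d000e74000e70000e6c000e6a000e69000e66000e63000e62000e60000e5f000e5e000e5d000e5b000e5a000e59000e57000e56000e55000e51000e50000e4f000e44000e42000e41000e40000e3f000e3e000e3d000e3c000e3b000e3a000e39000e35000e34000e33000e32000e31000e30000e2f000e29000e28 else nat_lit 0x10ec0010eb0010ea0010e90010e80010e70010e60010e50010e40010e30010e20010e10010e00010df0010de0010dd0010dc0010db0010da0010d90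010d80010d70010d60010d50010d40010d30010d20010d10010d00010cf0010ce0010cd0010cc0010cb0010ca0010c50010c40010c30010c20010c10010b40010b30010b20010b10010b00010af0010ae0010ad0010ac0010ab0010aa0010a90010a80010a70010a60010a50010a40010a30010a20010a10010a000109f00109e00109d00109c00109b00109a00109900109800109700109600109500109400109300109200109100109000108f00108e00108d00108c00108b00108a00108600108500108400108300107a00107900107800107700107600107500107400107300107200106c00106b00106a00106900101900100a001004001003001002000fff000ffd000ffc000ffb000ffa000ff9000ff8000ff7000ff6000ff5000ff4000ff3000ff2000ff1000ff0000fef000fee000fe6000fe4000fe1000fe0000fdc000fdb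
def cT_15_18 (j : ℕ) : ℕ := bif Nat.blt j 16 then nat_lit 0xe27000e22000e21000e20000e0f000e0e000e0d000e0b000e0a000e09000e08000e07000e06000e05000e04000e03000e02000e01000e00000dff000dfe000dfd000dfc000dfb000dfa000df9000df8000df7000df6000df5000df4000df3000df2000df1000df0000def000dee000ded000dec000deb000dea000de9000de8000de7000de6000de5000de1000de0000ddf000dde000dd3000dd2000dd1000dd0000dcf000dce000dcd000dcc000dcb000dca000dc9000dc8000dc7000dc6000dc5000dc4000dc3000dc2000dc1000dc0000dbf000dbe000dbd000dbc000dbb000dba000db9000db8000db7000db6000db5000db4000db3000db2000db1000dae000dad000dac000da5000da4000da3000da2000da1000da0000d9f000d9b000d9a000d99000d3c000d3a000d39000d2d000d2c000d2b000d29000d28000d27000d26000d25000d24000d22000d21000d20000d1f000d1e000d1d000d1c000d1b000d1a000d19000d18000d17000d16000d11000d10000d0e000d0d000d0c else (cT_16_18 j)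
def cT_12_18 (j : ℕ) : ℕ := bif Nat.blt j 15 then (cT_12_15 j) else (cT_15_18 j)
def cT_19_21 (j : ℕ) : ℕ := bif Nat.blt j 20 then nat_lit 0x14080014070014060014050014040014030014020014010014000013ff0013fe0013fd0013fc0013fb0013fa0013f90013f80013f70013f60013f50013f00013ef0013ee0013ed0013ec0013eb0013ea0013e90013d60013d50013d40013d30013d20013d10013d00013cf0013ce0013cd0013cc0013cb0013ca0013c90013c40013c30013c20013c10013c00013bf0013be0013bd0013bc0013bb0013ba0013b90013b80013b70013b60013b50013b40013b30013b20013b10013b00013af0013ae0013ad0013ac0013ab0013aa0013a90013a80013a70013a60013a50013a000139f00139e00139d00139c00139100139000138f00138e00138d00138c00138b00138a00138900138800138700138600138500137e00137d00137c00137b00137a00131200130f00130d00130c00130b0013090013080013070013060013020013010013000012ff0012fe0012fd0012ed0012eb0012e90012e60012e20012e10012e00012df0012db0012da0012d90012d80012d70012d60012d50012d4 else nat_lit 0x161800161400161300161200161000160e001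60a0016080016000015ff0015fe00152c00152900152800151400150c00150a0015080015050015030015020015010014ff0014fe0014fd0014fc0014f80014f70014f60014f50014f40014f30014e30014e10014df0014de0014dd0014dc0014db0014da0014d90014d80014d70014d60014d50014d40014d30014d20014d10014d00014cc0014c90014ba0014af0014ab0014aa0014a90014a80014a40014a30014a20014a100149e00149c00149b00149a00149300149200149100148300148100147f00147e00147c00147b00147800147300147100146f00146e00146d00146c00146a00146900146800146700145d00145c00145b00145a00145100145000144f00144e00143400143300142e00142b00142a00142900142800142700142600142500142400142300142200142000141f00141e00141d00141c00141b00141a00141900141800141700141300141200141100141000140f00140e00140d00140c00140b00140a001409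
def cT_18_21 (j : ℕ) : ℕ := bif Nat.blt j 19 then nat_lit 0x12d30012d20012d10012d00012cf0012cd0012cb0012ca0012c70012c30012c20012c10012c00012160012150012130011f00011ef0011df0011de0011dc0011db0011d80011d70011d60011cc0011be0011bc0011b80011b70011b60011b50011b40011b30011b10011b00011af0011ae0011ad0011ac0011ab0011aa0011a90011a80011a70011a60011a50011a40011a30011a200119a00119800119500119400119300119200119100119000118f00118e00118d00118c00118b00118a00118900118800118700118400118300117800117300116e00116700116600116100116000115f00115d00115c00115b00115a00115800115700115600115500115000114f00114e00114d00114000113f00113d00113c00113b00113900113800113700113500113300112e00112d00112c00112b00112a00112800112700112600111e00111d00111c0011150011140011130010fe0010fd0010fa0010f80010f70010f60010f50010f40010f30010f20010f10010f00010ef0010ee0010ed else (cT_19_21 j)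
def cT_21_23 (j : ℕ) : ℕ := bif Nat.blt j 22 then nat_lit 0x178500178400177d00177c00177b00177a00177600177500177400177300177200177100177000176f00176e00176900176800176700176600176500176400176300176200176000175f00175e00175d00175c00175b00175a00175300175200175100175000174f00174e00174d00174c00174b00174a00173400173300173200173100173000172b00172a00172900172800172700172600172100172000171f00171e00171900171800171700171600171500171400170f00170e00170d00170c00170b00170a0017090017080017070017060017050017040017030017020017010017000016ff0016fe0016fd0016fc0016fb0016fa0016f40016f30016f20016f10016f00016ef0016ee0016ed0016dc0016db0016da0016d90016d80016d70016d30016d20016d10016d00016c90016c80016c70016c60016c50016c40016c30016c200165c00165700165400165300164c00164800164700164600164500164400162e00162900162100162000161d00161c00161b00161a001619 else nat_lit 0x1a63001a62001a61001a5c001a5b001a5a001a59001a58001a53001a52001a51001a50001a4f001a4e001a49001a48001a47001a46001a45001a44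001a38001a37001a36001a35001a34001a33001a1c001a1b001a1a001a19001a18001a14001a13001a09001a08001a07001a06001a05001a040019a000199f00199200199100199000198f00197400196a00196900196800196500196300195e00195d00195b00195a00195600194d00194c0018a000189700188c00188a00188500188200188100188000187a00187600187500187400187300187200185f00185900185800185700185500185400185300184e00184d00184c00184b00184a00184900182900182200182100181e00181d00181a00181800181700181600180e00180d0017fb0017f70017f50017ed0017eb0017e90017e80017e20017e10017e00017d20017d10017d00017c40017c30017c200179900179800179700179600179500179400179300179200178e00178d00178b00178a001789001788001787001786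
def cT_23_25 (j : ℕ) : ℕ := bif Nat.blt j 24 then nat_lit 0x1d36001d32001d31001d30001d2e001d2a001d25001d24001d23001d22001d21001d1c001d1b001d1a001d19001d18001d0d001d0c001d0b001d0a001d09001cf7001cf5001cf1001ce3001ce2001ce1001ce0001cdf001ca1001c97001c84001c7f001c7e001c7c001c75001c72001c71001c68001bdc001bce001bcd001bca001bc1001bc0001bbf001bbe001bba001bac001b9f001b9e001b9d001b96001b95001b94001b93001b92001b77001b76001b75001b72001b6f001b4d001b46001b45001b43001b3b001b3a001b2c001b2b001b1b001b1a001aeb001aea001ae9001ae8001ae5001ae2001ae0001adf001ade001adc001adb001ad9001ad8001ad3001acf001aca001ac9001ac8001ac7001ac6001ac5001ac4001ac3001ab9001ab8001ab7001ab6001ab5001ab0001aaf001aad001aac001aab001aaa001aa9001aa8001a9b001a9a001a99001a98001a97001a96001a95001a94001a93001a7e001a7d001a7b001a73001a72001a71001a70001a6f001a6a001a65001a64 else nat_lit 0x1ecc001ecb001eca001ec9001ec8001ec7001ec6001ec5001ec4001ec3001ec2001ec1001ec0001ebf001ebe001ebd001ebc001ebb001eba001eb9001eb8001eb7001eb6001eb5001eb4001eb3001eb2001eb1001eb0001eaf001eae001ead001eac001eab001eaa001e63001e55001e54001e46001e36001e35001e33001e2f001e23001e22001e20001e03001e02001deb001ddc001db4001db0001dae001dac001da5001da3001da0001d9a001d99001d97001d95001d92001d91001d89001d88001d86001d82001d7b001d79001d78001d77001d75001d74001d65001d64001d63001d62001d61001d60001d5f001d5e001d48001d47001d43001d40001d3c001d39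
def cT_21_25 (j : ℕ) : ℕ := bif Nat.blt j 23 then (cT_21_23 j) else (cT_23_25 j)
def cT_18_25 (j : ℕ) : ℕ := bif Nat.blt j 21 then (cT_18_21 j) else (cT_21_25 j)
def cT_12_25 (j : ℕ) : ℕ := bif Nat.blt j 18 then (cT_12_18 j) else (cT_18_25 j)
def cT_0_25 (j : ℕ) : ℕ := bif Nat.blt j 12 then (cT_0_12 j) else (cT_12_25 j)
def cT (j : ℕ) : ℕ := (cT_0_25 j)
noncomputable def cChunk (h : ℕ) : ℕ := Nat.rec (motive := fun _ => ℕ) (cT 0) (fun n _ => cT (Nat.succ n)) h
noncomputable def cF (i : ℕ) : ℕ := Nat.land (Nat.shiftRight (cChunk (Nat.shiftRight i 7)) (Nat.mul (Nat.land i 127) 24)) 16777215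
theorem cF_lt (i : ℕ) : cF i < 16777216 := land24_lt _
theorem cF_zero : cF 0 = 0 := by decide +kernel
def nDef : ℕ := 7884
def nEv : ℕ := 29517
def nW : ℕ := 99
def N : ℕ := 3159
def ys : List ℕ := [nat_lit 1, nat_lit 2, nat_lit 3, nat_lit 4, nat_lit 5, nat_lit 6, nat_lit 8, nat_lit 9]
def Js : List ℕ := [nat_lit 1, nat_lit 2, nat_lit 3, nat_lit 4, nat_lit 5, nat_lit 6, nat_lit 8, nat_lit 9]
def Jp : List ℕ := [nat_lit 1, nat_lit 2, nat_lit 3, nat_lit 4, nat_lit 5, nat_lit 6, nat_lit 8]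
end Cfsg.Agent.Lib.ToddCox.Fi23C2
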